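import Cfsg.Agent.TO.X.Iface
import Cfsg.Agent.TO.X11.Fr
import Cfsg.Agent.TO.G2D.Gen
import Cfsg.Agent.TO.E6.Tool
import Cfsg.Agent.TO.FO.Frame
import Cfsg.Agent.H931.KC.PPCard

/-!
# S4817, exceptional rows: a toral pure plane in coordinates (helper92)

* `Pv D p`, `conn`, `toral`, `pv_X` : connected centralisers if `p` is larger than the order of the fundamental group;
* `em` : the embedding of `XS`; `conj_form` : `Pure.conj` in coordinates; `exists_pl` : the pure plane.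
-/

set_option autoImplicit false
set_option linter.unusedSectionVars false
set_option maxHeartbeats 400000

namespace Cfsg.Agent.TO.X7

open CoxeterSystem Cfsg Cfsg.Lie Matrix Cfsg.Agent.ChevalleyStructure.CoxeterGeom Cfsg.Agent.Tits.Roots
  Cfsg.Agent.Nodes.Reps Cfsg.Agent.DL Cfsg.Agent.DL.Asm Cfsg.Agent.DL.Uni Cfsg.Agent.Nodes Cfsg.Agent.Nodes.BNOf
  Cfsg.Agent.Nodes.RGDChev Cfsg.Agent.KZ.DatX Cfsg.Agent.BpExc.TorCent
open Cfsg.Agent.BHZ.Nil (KK)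
open Cfsg.Agent.TO.X11 (Em Co ev)

section Dat

variable {r : ℕ} [Fact r.Prime] {k : Type} [Field k] [CharP k r] {Y : Type} [Group Y] {N : Type} [Fintype N]
  [DecidableEq N] {ρ : Y →* GL N k} {F : MulAut Y} {G : Subgroup Y} [IsAlgClosed k] (D : Datum r ρ F G)

/-- the component groups of the centralisers of the elements of order `p` are trivial -/
def Pv (p : ℕ) : Prop := ∀ z ∈ D.T, z ^ p = 1 → ∀ w ∈ PP D.cs D.h D.χ z, w = 1

variable {D}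

theorem Pv.conj {p : ℕ} (h : Pv D p) {y : Y} (hy : y ∈ G) (hF : y⁻¹ * F y ∈ D.NN) : Pv (D.conj hy hF) p := by
  intro z hz hzp w hw
  have h1 : y⁻¹ * z * y ∈ D.T := mem_cj.1 hz
  have e : z = y * (y⁻¹ * z * y) * y⁻¹ := by group
  have h2 : ∀ a, (D.conj hy hF).χ a z = D.χ a (y⁻¹ * z * y) := fun a => by
    rw [← D.conj_χ hy hF a h1, ← e]
  refine h _ h1 ?_ w (mem_PP.2 ⟨fun a ha => ?_, fun a ha h0 => (mem_PP.1 hw).2 a ⟨ha.1, (h2 a).trans ha.2⟩ h0⟩)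
  · rw [show y⁻¹ * z * y = y⁻¹ * z * y⁻¹⁻¹ by rw [inv_inv], conj_pow, hzp, mul_one, mul_inv_cancel]
  · rw [← h2, ← h2]
    exact (mem_PP.1 hw).1 a ha

theorem conn {p : ℕ} (hW : Pv D p) {z : Y} (hz : z ∈ D.T) (hzp : z ^ p = 1) (hFz : F z = z) {y : Y}
    (hy : y ∈ G) (hc : y * z = z * y) : y ∈ D.cen {z} := by
  have hZ : ({z} : Set Y) ⊆ D.T := Set.singleton_subset_iff.2 hz
  have hF : ∀ a ∈ D.Sz {z}, D.g a ∈ D.Sz {z} := fun _ => D.g_mem_Sz hZ fun z hz => by rw [hz, hFz]; rfl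
  obtain ⟨c, hc1, m, ⟨w, hm⟩, hmc, rfl⟩ := D.exists_cen_form hZ hy
    (Subgroup.mem_centralizer_singleton_iff.2 hc)
  obtain ⟨v, hv⟩ := D.exists_sub_chamber hZ hF rfl w
  obtain ⟨m', hm'⟩ := Nodes.Reps.exists_rp _ (D.sub hZ hF rfl).nsys v
  have h1 : m' ∈ D.cen {z} := Datum.Rp.mem_G hm'
  have h2 : D.Rp (D.subW {z} v) m' := D.rp_of_sub hZ hF rfl hm'
  have h3 : D.Rp ((D.subW {z} v)⁻¹ * w) (m'⁻¹ * m) := h2.inv.mul hm
  have h4 : m'⁻¹ * m ∈ Subgroup.centralizer ({z} : Set Y) := mul_mem (inv_mem (D.cen_le_centralizer hZ h1)) hmc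
  have h5 : (D.subW {z} v)⁻¹ * w ∈ PP D.cs D.h D.χ z := by
    refine mem_PP.2 ⟨fun a _ => D.χ_act_of_comm hZ h3 h4 a rfl, fun a ha h0 => ?_⟩
    have ha' : a ∈ D.Sz {z} := ⟨ha.1, fun _ h => h ▸ ha.2⟩
    obtain ⟨b, hb, e1⟩ := hv.subset ⟨⟨a, ⟨ha.1, h0⟩, rfl⟩, D.act_mem_Sz hZ hm hmc ha'⟩
    rw [rep_mul_apply]
    exact ((congrArg _ e1.symm).trans (rep_inv_apply _ _ _ _)).symm ▸ hb.1.2
  rw [hW z hz hzp _ h5] at h3
  have h7 := mul_mem (D.S_le_cen _ hc1) (mul_mem h1 (D.T_le_cen _ h3.mem_of_one))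
  rwa [mul_inv_cancel_left] at h7

theorem toral {p : ℕ} (hp : p.Prime) (hr : p ≠ r) (hW : Pv D p) {z x : Y} (hz : z ∈ GF F G) (hx : x ∈ GF F G)
    (hzp : z ^ p = 1) (hxp : x ^ p = 1) (hc : x * z = z * x) :
    ∃ (y : Y) (hy : y ∈ G) (hF : y⁻¹ * F y ∈ D.NN), z ∈ (D.conj hy hF).T ∧ x ∈ (D.conj hy hF).T := by
  obtain ⟨T, hT, h1⟩ := (sys' D).toral hz (G2D.ss_of_pow hp hr hzp)
  obtain ⟨y, hy, hF, rfl, -⟩ := Datum.exists_of_pair (pair_Vof hT)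
  have hZ : ({z} : Set Y) ⊆ (D.conj hy hF).T := Set.singleton_subset_iff.2 h1
  have hF' : ∀ a ∈ (D.conj hy hF).Sz {z}, (D.conj hy hF).g a ∈ (D.conj hy hF).Sz {z} :=
    fun _ => (D.conj hy hF).g_mem_Sz hZ fun z' hz' => by rw [hz', (mem_GF.1 hz).2]; rfl
  obtain ⟨T', hT', h2⟩ := (sys' ((D.conj hy hF).sub hZ hF' rfl)).toral
    ⟨conn (hW.conj hy hF) h1 hzp hz.2 hx.1 hc, hx.2⟩ (G2D.ss_of_pow hp hr hxp)
  rw [Datum.tori_sub, D.tori_conj] at hT'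
  obtain ⟨y', hy', hF'', rfl, -⟩ := Datum.exists_of_pair (pair_Vof hT'.1)
  exact ⟨y', hy', hF'', hT'.2 rfl, h2⟩

variable {p : ℕ} [Fact p.Prime] {Adm : Matrix D.R D.R ℤ → Prop} {S : Type} [Group S]

theorem neZero (k : Type) [Field k] [CharP k r] (hr : p ≠ r) : NeZero (p : k) :=
  ⟨fun e => hr ((Nat.prime_dvd_prime_iff_eq Fact.out Fact.out).1 ((CharP.cast_eq_zero_iff k r p).1 e)).symm⟩

/-- coordinates for a subgroup of exponent `p` of a stable torus -/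
theorem co_of (hr : p ≠ r) (E : Em D p Adm S) {Q : Subgroup S} (h : ∀ u ∈ Q, u ^ p = 1) {y : Y} (hy : y ∈ G)
    (hF : y⁻¹ * F y ∈ D.NN) (h1 : ∀ u ∈ Q, y⁻¹ * E.ι u * y ∈ D.T) : Nonempty (Co E Q) := by
  have := neZero k hr
  obtain ⟨ζ, hζ⟩ := HasEnoughRootsOfUnity.exists_primitiveRoot k p
  have hζ' := hζ.isUnit_unit (Fact.out : p.Prime).ne_zero
  obtain ⟨w, hw⟩ := hF
  refine ⟨⟨y, hy, w, hw, _, hζ', fun u hu => ?_⟩⟩
  obtain ⟨c, hc⟩ := (D.mem_T _).1 (h1 u hu)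
  have h2 : E.ι u = y * D.τ c * y⁻¹ := by
    rw [hc]
    group
  obtain ⟨v, rfl⟩ := X11.exists_ev hζ' (c := c) (D.τ_inj (by
    have h3 := congrArg (· ^ p) h2
    simp only [conj_pow, ← map_pow, h u hu, map_one] at h3
    rw [map_one]
    exact conj_eq_one_iff.1 h3.symm))
  exact ⟨v, h2⟩

/-- a toral non-cyclic subgroup -/
theorem exists_co (hr : p ≠ r) (hW : Pv D p) (E : Em D p Adm S) [Finite S] {Q : Subgroup S} (hQ : IsPGroup p Q)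
    (hc : ¬ IsCyclic Q) (h : ∀ u ∈ Q, u ^ p = 1) : ∃ B ≤ Q, ¬ IsCyclic B ∧ Nonempty (Co E B) := by
  obtain ⟨z, hz, z1, h1⟩ := FO.exists_central hQ fun e => hc (e ▸ inferInstance)
  obtain ⟨x, hx, h2⟩ := FO.exists_not_mem_zpowers hc hz
  obtain ⟨y, hy, hF, h3, h4⟩ := toral Fact.out hr hW (E.mem z) (E.mem x) (by rw [← map_pow, h z hz, map_one])
    (by rw [← map_pow, h x hx, map_one]) (by rw [← map_mul, ← map_mul, (h1 x hx).eq])
  have h5 : z ∈ Q ⊓ (cj y D.T).comap E.ι := ⟨hz, h3⟩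
  have h6 : x ∈ Q ⊓ (cj y D.T).comap E.ι := ⟨hx, h4⟩
  refine ⟨Q ⊓ (cj y D.T).comap E.ι, inf_le_left, fun h7 => h2 ?_, co_of hr E (fun u hu => h u hu.1) hy hF
    fun u hu => mem_cj.1 hu.2⟩
  obtain ⟨g, hg⟩ := h7.exists_generator
  have h8 : Subgroup.zpowers (⟨z, h5⟩ : ↥(Q ⊓ (cj y D.T).comap E.ι)) = ⊤ := by
    refine Subgroup.eq_top_of_card_eq _ ?_
    have h9 : ∀ a : ↥(Q ⊓ (cj y D.T).comap E.ι), a ≠ 1 → orderOf a = p := fun a ha =>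
      orderOf_eq_prime (Subtype.ext (h a a.2.1)) ha
    have h10 : (⟨z, h5⟩ : ↥(Q ⊓ (cj y D.T).comap E.ι)) ≠ 1 := fun e => z1 (congrArg Subtype.val e)
    rw [Nat.card_zpowers, h9 _ h10, ← orderOf_eq_card_of_forall_mem_zpowers hg, h9 g]
    rintro rfl
    obtain ⟨n, hn⟩ := hg ⟨z, h5⟩
    exact h10 (hn.symm.trans (one_zpow n))
  obtain ⟨n, hn⟩ : (⟨x, h6⟩ : ↥(Q ⊓ (cj y D.T).comap E.ι)) ∈ Subgroup.zpowers ⟨z, h5⟩ := h8 ▸ Subgroup.mem_top _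
  exact ⟨n, congrArg Subtype.val hn⟩

variable {E : Em D p Adm S} {B : Subgroup S} (C : Co E B)

/-- conjugacy under an automorphism in coordinates -/
theorem conj_form (σ : MulAut S) {a : S} {v v' : D.R → ZMod p} (h : E.ι a = C.t (ev C.ζ v))
    (h' : E.ι (σ a) = C.t (ev C.ζ v')) : ∃ z A, Adm A ∧ v' = X11.mv (D.Wm z * A) v := by
  obtain ⟨g, hg, α, A, h1, h2, h3⟩ := E.aut σ
  obtain ⟨z, m, hz, e⟩ := E6.exists_rp_conj D (ι := Unit) (s := fun _ => D.τ (mon A (ev C.ζ v)))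
    (t := fun _ => D.τ (ev C.ζ v')) (fun _ => D.τ_mem _) (fun _ => D.τ_mem _) (y := C.y⁻¹ * g * α C.y)
    (mul_mem (mul_mem (inv_mem C.hy) hg) ((h1.memG _).2 C.hy)) fun _ => by
      rw [h3, h, Co.t, Co.t, map_mul, map_mul, map_inv, h1.tau] at h'
      calc _ = C.y⁻¹ * (g * (α C.y * D.τ (mon A (ev C.ζ v)) * (α C.y)⁻¹) * g⁻¹) * C.y := by group
        _ = _ := by rw [h']; group
  refine ⟨z, A, h2, X11.ev_inj C.hζ (D.τ_inj ?_)⟩
  rw [X11.ev_mv C.hζ, mon_mul, ← D.conj_τ hz]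
  exact (e ()).symm

theorem pElt_of {a : S} {v : D.R → ZMod p} (h : E.ι a = C.t (ev C.ζ v)) : PElt p a :=
  FO.pElt_of_pow (k := 1) (E.inj (by rw [pow_one, map_pow, h, ← C.t_pow, X11.ev_pow C.hζ, C.t_one, map_one]))

/-- the fixed points of the torus lie in `KK` if no root vanishes on `B` -/
theorem mem_KK [Finite S] (h0 : D.Sz C.Z = ∅) {a : S} {c : D.R → kˣ} (h : E.ι a = C.t c) : a ∈ KK p B := by
  refine BHZ.Nil.mem_KK_iff.2 fun b hb hp => E.inj ?_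
  obtain ⟨c', hc', z, m, hz, h1, e⟩ := C.cen_form hb
  have h2 : C.y⁻¹ * E.ι b * C.y ∈ D.T := by
    refine E6.mem_T_of_cop D C.Z_le h0 (mul_mem (mul_mem (inv_mem C.hy) (E.mem b).1) C.hy) ?_ (orderOf_pos b) ?_ ?_
    · rw [e]
      refine mul_mem (D.cen_le_centralizer C.Z_le (D.S_le_cen _ hc')) ?_
      rintro _ ⟨s, hs, rfl⟩
      rw [eq_comm, ← mul_inv_eq_iff_eq_mul, D.conj_τ hz, ← X11.ev_mv C.hζ, h1 s hs]
    · rintro _ ⟨s, -, rfl⟩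
      exact ⟨p, ((Fact.out : p.Prime).coprime_iff_not_dvd).2 hp, by rw [← map_pow, X11.ev_pow C.hζ, map_one]⟩
    · rw [show C.y⁻¹ * E.ι b * C.y = C.y⁻¹ * E.ι b * C.y⁻¹⁻¹ by rw [inv_inv], conj_pow, ← map_pow, pow_orderOf_eq_one,
        map_one, mul_one, mul_inv_cancel]
      exact one_mem _
  have h3 := D.T_comm h2 (D.τ_mem c)
  rw [map_mul, map_mul, h, Co.t]
  calc _ = C.y * (C.y⁻¹ * E.ι b * C.y * D.τ c) * C.y⁻¹ := by group
    _ = _ := by rw [h3]; group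

end Dat

variable {C : ChevalleyDatum} {l : ℕ} {M : CoxeterMatrix (Fin l)} {hp : IsType C l M} {r : ℕ} [Fact r.Prime] {k : Type}
  [Field k] [CharP k r] [IsAlgClosed k] {Mx : Matrix (Fin l) (Fin l) ℤ} (X : XF hp r k Mx) {p : ℕ} [Fact p.Prime]

theorem pv_X (hr : p ≠ r) (h : H931.KC.nmk C l < p) : Pv X.D p := by
  intro z hz hzp w hw
  have : Finite M.Group := X.D.fW
  have e : ∀ a, X.D.Rt a → X.D.χ a z = KFacts.RgdChevCoord.ch hp a z := fun a ha => by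
    obtain ⟨c, rfl⟩ := (X.D.mem_T z).1 hz
    rw [X.D.χ_τ, ← H129.TorusChar.cX_root hp M.toCoxeterSystem hz ha]
    exact (DL.Ex.cX_tau hp c a).symm
  have h1 : PP X.D.cs X.D.h X.D.χ z ≤ PP M.toCoxeterSystem hp.isCartan (KFacts.RgdChevCoord.ch hp) z := fun v hv =>
    mem_PP.2 ⟨fun a ha => by
      rw [← e a ha, ← e _ (ha.act v)]
      exact (mem_PP.1 hv).1 a ha, fun a ha h0 => (mem_PP.1 hv).2 a ⟨ha.1, (e a ha.1).trans ha.2⟩ h0⟩
  have h2 := H931.KC.card_PP_le hp (neZero k hr).out hz hzp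
  rw [H931.KC.card_mk] at h2
  have h3 := isPGroup_PP (h := X.D.h) X.D.chAdd hz (Fact.out : p.Prime)
    fun a _ => by rw [← G2D.chi_pow X.D a hz, hzp, X.D.χ_one]
  obtain ⟨n, hn⟩ := IsPGroup.iff_card.1 h3
  have h4 := ((Subgroup.card_le_of_le h1).trans h2).trans_lt h
  rcases n with _ | n
  · exact Subgroup.mem_bot.1 (Subgroup.card_eq_one.1 (hn.trans (pow_zero p)) ▸ hw)
  · exact absurd (h4.trans_le ((Nat.le_self_pow n.succ_ne_zero p).trans_eq hn.symm)) (lt_irrefl _)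

variable {X} {Adm : Matrix (Fin l) (Fin l) ℤ → Prop} {d : ℕ} {S : Type} [Group S]

/-- the embedding -/
noncomputable def em (s : XS X Adm d S) (hd : d.Coprime p) : Em X.D p Adm S where
  ι := s.ι
  inj := s.ov.inj
  mem := s.ov.mem
  pw g hg h := by
    obtain ⟨m, hm⟩ := exists_pow_eq_self_of_coprime (x := g) (n := d)
      (hd.coprime_dvd_right (orderOf_dvd_of_pow_eq_one h))
    have h1 := pow_mem (s.pow_mem hg) m
    rwa [hm] at h1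
  aut σ := by
    obtain ⟨g, -, h⟩ := s.aut σ
    exact ⟨g, trivial, h⟩

theorem wm_Wm (w : X.D.W) : TO.X.WM C l (X.D.Wm w) := by
  obtain ⟨L, -, h⟩ := X.exists_word w
  exact ⟨L, h⟩

end Cfsg.Agent.TO.X7
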